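import Cfsg.Agent.Lib.BNSteinberg.Regular.Longest

/-!
# Fixed cosets of an element of a minimal parabolic subgroup

If `g` lies in `P_K` with `K` minimal, a coset of `P_J` fixed by `g` is represented in a cell
`d` carrying `K` to generators in `J`; the alternating sum keeps only `d = w_K w_0`.
-/

set_option autoImplicit false
set_option linter.unusedSectionVars false

namespace CfsgLib.BNSteinberg

open CfsgLib.Chev.BN

variable {G : Type*} [Group G] [Finite G] {P : Cfsg.BNPair G}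

/-- `d` carries the generators in `K` to generators and is left minimal for `K`. -/
structure Maps (P : Cfsg.BNPair G) (K : Set G) (d : G) : Prop where
  lmin : LMin P K d
  map : ∀ s ∈ K, ∃ t ∈ P.S, Eqv P (s * d) (d * t)

theorem Maps.congr {K : Set G} {d d' : G} (h : Maps P K d) (e : Eqv P d d') : Maps P K d' where
  lmin := h.lmin.congr e
  map s hs := by
    obtain ⟨t, ht, he⟩ := h.map s hs
    exact ⟨t, ht, ((e.symm.mul_left s).trans he).trans (e.mul_right (s_mem_N ht))⟩

theorem image_congr {K : Set G} {d d' : G} (e : Eqv P d d') : image P K d = image P K d' := by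
  suffices H : ∀ a b, Eqv P a b → image P K a ⊆ image P K b from
    (H d d' e).antisymm (H d' d e.symm)
  rintro a b hab t ⟨ht, s, hs, he⟩
  exact ⟨ht, s, hs, ((hab.symm.mul_left s).trans he).trans (hab.mul_right (s_mem_N ht))⟩

theorem Maps.rmin_image {K : Set G} (_hK : K ⊆ P.S) {d : G} (hd : d ∈ P.N) (h : Maps P K d) :
    RMin P (image P K d) d := by
  refine (rmin_iff (image_subset K d) hd).2 ?_
  rintro t ⟨-, s, hs, e⟩
  rw [← len_congr e]
  exact h.lmin s (mem_NJ hs)

theorem Maps.ncard_image {K : Set G} (hK : K ⊆ P.S) {d : G} (hd : d ∈ P.N) (h : Maps P K d) :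
    (image P K d).ncard = K.ncard := by
  choose f hfS hf using h.map
  symm
  refine Set.ncard_congr f (fun s hs => ⟨hfS s hs, s, hs, hf s hs⟩) (fun a b ha hb e => ?_) ?_
  · refine eqv_simple_inj (hK ha) (hK hb) ?_
    have := ((hf a ha).trans (e ▸ (hf b hb).symm)).mul_right (inv_mem hd)
    rwa [mul_inv_cancel_right, mul_inv_cancel_right] at this
  · rintro t ⟨ht, s, hs, e⟩
    refine ⟨s, hs, eqv_simple_inj (hfS s hs) ht ?_⟩
    have := ((hf s hs).symm.trans e).mul_left d⁻¹
    rwa [inv_mul_cancel_left, inv_mul_cancel_left] at this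

/-- `W_K ∩ d W_J d⁻¹` is generated by the generators of `K` in it. -/
theorem meet {K J : Set G} (hK : K ⊆ P.S) (hJ : J ⊆ P.S) {d : G} (hd : d ∈ P.N)
    (hL : LMin P K d) (hR : RMin P J d) {v j : G} (hv : v ∈ NJ P K) (hj : j ∈ NJ P J)
    (e : Eqv P (v * d) (d * j)) :
    v ∈ NJ P {s | s ∈ K ∧ ∃ t ∈ J, Eqv P (s * d) (d * t)} := by
  have key : ∀ l : List G, (∀ x ∈ l, x ∈ K) → Red P l → ∃ y i, y ∈ P.N ∧ RMin P J y ∧
      i ∈ NJ P J ∧ len P y + len P i = l.length + len P d ∧ Eqv P (l.prod * d) (y * i) ∧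
      ((l.prod ∈ NJ P {s | s ∈ K ∧ ∃ t ∈ J, Eqv P (s * d) (d * t)} ∧ Eqv P y d) ∨
        len P d < len P y) := by
    intro l
    induction l with
    | nil =>
      intro _ _
      refine ⟨d, 1, hd, hR, one_mem _, ?_, by simp [Eqv], Or.inl ⟨?_, Eqv.refl _⟩⟩
      · rw [(len_eq_zero_iff (one_mem _)).2 (one_mem _)]
        simp
      · rw [List.prod_nil]
        exact one_mem _
    | cons s l ih =>
      intro hlK hred
      have hsK : s ∈ K := hlK s (by simp)
      have hl' : ∀ x ∈ l, x ∈ K := fun x hx => hlK x (by simp [hx])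
      obtain ⟨y, i, hy, hyR, hi, hlen, he, hdisj⟩ := ih hl' hred.tail
      have hiN := NJ_le hJ hi
      have hsN := s_mem_N (hK hsK)
      have hlenc : len P ((s :: l).prod * d) = l.length + 1 + len P d := by
        rw [hL.add hK hd (prod_mem_NJ hlK), hred.2, List.length_cons]
      have he' : Eqv P ((s :: l).prod * d) (s * y * i) := by
        rw [List.prod_cons, mul_assoc, mul_assoc]
        exact he.mul_left s
      rcases len_up_or_down (hK hsK) hy with hup | hdown
      swap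
      · have := len_mul_le_add (mul_mem hsN hy) hiN (P := P)
        rw [← len_congr he', hlenc] at this
        omega
      rcases deodhar hJ hy (hK hsK) (by omega) hyR with hmin | ⟨t, ht, hst⟩
      · refine ⟨s * y, i, mul_mem hsN hy, hmin, hi, ?_, he', Or.inr ?_⟩
        · rw [List.length_cons]; omega
        · rcases hdisj with ⟨-, hyd⟩ | hlt
          · rw [hup, len_congr hyd]; omega
          · omega
      · have hti : t * i ∈ NJ P J := mul_mem (mem_NJ ht) hi
        have he'' : Eqv P ((s :: l).prod * d) (y * (t * i)) := by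
          rw [← mul_assoc]
          exact he'.trans (hst.mul_right hiN)
        refine ⟨y, t * i, hy, hyR, hti, ?_, he'', ?_⟩
        · rw [← hyR.add hJ hy hti, ← len_congr he'', hlenc, List.length_cons]
        · rcases hdisj with ⟨hmem, hyd⟩ | hlt
          · refine Or.inl ⟨?_, hyd⟩
            rw [List.prod_cons]
            refine mul_mem (mem_NJ ⟨hsK, t, ht, ?_⟩) hmem
            exact ((hyd.symm.mul_left s).trans hst).trans (hyd.mul_right (s_mem_N (hJ ht)))
          · exact Or.inr hlt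
  obtain ⟨l, hlK, hlred, hle⟩ := exists_red_subset hK hv
  obtain ⟨y, i, hy, hyR, hi, -, he, hdisj⟩ := key l hlK hlred
  have h1 : Eqv P (y * i) (d * j) := (he.symm.trans (hle.mul_right hd)).trans e
  rcases hdisj with ⟨hmem, -⟩ | hlt
  · exact eqv_mem_NJ hle hmem
  exfalso
  have h2 := hyR _ (mul_mem hi (inv_mem hj))
  have h3 := h1.mul_right (inv_mem (NJ_le hJ hj))
  rw [mul_inv_cancel_right, mul_assoc] at h3
  rw [len_congr h3] at h2
  omega

/-- `g c` lies in the same translate of the cell of `d`, modulo the image of `K`. -/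
theorem Maps.cell_stable {K : Set G} (hK : K ⊆ P.S) {d : G} (hd : d ∈ P.N) (h : Maps P K d)
    {g c : G} (hg : g ∈ P.parabolic K) (hc : c ∈ cell P d) :
    ∃ c' ∈ cell P d, c'⁻¹ * (g * c) ∈ P.parabolic (image P K d) := by
  obtain ⟨v, hv, hgv⟩ := parabolic_cell hK hg
  have hgc := cell_mul (NJ_le hK hv) hd (h.lmin.add hK hd hv) hgv hc
  rw [show v * d = d * (d⁻¹ * v * d) by group] at hgc
  obtain ⟨b, hb, b', hb', e⟩ := mem_cell.1 hgc
  have hv' := image_conj hK hd h.map hv
  refine ⟨b * d, mul_mem_cell hb (mem_cell_self d), ?_⟩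
  rw [e, show (b * d)⁻¹ * (b * (d * (d⁻¹ * v * d)) * b') = d⁻¹ * v * d * b' by group]
  exact mul_mem ((mem_parabolic_N (image_subset K d)
    (NJ_le (image_subset K d) hv')).2 hv') (B_le_parabolic _ hb')

variable {K : Set G} {g : G}

/-- `g ∈ P_K` has no conjugate by `P_K` in a smaller standard parabolic subgroup. -/
def Minimal (P : Cfsg.BNPair G) (K : Set G) (g : G) : Prop :=
  g ∈ P.parabolic K ∧
    ∀ L ⊆ K, ∀ k ∈ P.parabolic K, k⁻¹ * g * k ∈ P.parabolic L → L = K

theorem fixed_cell (hK : K ⊆ P.S) (hmin : Minimal P K g) {J : Set G} (hJ : J ⊆ P.S) {c w : G}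
    (hw : w ∈ P.N) (hwR : RMin P J w) (hc : c ∈ cell P w)
    (hfix : c⁻¹ * g * c ∈ P.parabolic J) :
    Maps P K w ∧ image P K w ⊆ J ∧ c⁻¹ * g * c ∈ P.parabolic (image P K w) := by
  -- the left minimal representative
  obtain ⟨a, ha, hR'⟩ := exists_rmin (P := P) (J := K) w⁻¹
  have haN := NJ_le hK ha
  set d := a⁻¹ * w with hddef
  have hd : d ∈ P.N := mul_mem (inv_mem haN) hw
  have hL : LMin P K d := fun v hv => by
    rw [← len_inv hd, ← len_inv (mul_mem (NJ_le hK hv) hd), hddef, mul_inv_rev, mul_inv_rev,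
      inv_inv, mul_inv_rev, inv_inv]
    exact hR' v⁻¹ (inv_mem hv)
  have hwd : w = a * d := by rw [hddef]; group
  have hadd : len P w = len P a + len P d := by rw [hwd, hL.add hK hd ha]
  have hR : RMin P J d := fun u hu => by
    have h1 := hwR u hu
    have h2 := len_mul_le_add haN (mul_mem hd (NJ_le hJ hu)) (P := P)
    rw [← mul_assoc, ← hwd] at h2
    omega
  obtain ⟨b₁, hb₁, b₂, hb₂, hce⟩ := mem_cell.1 hc
  set k := b₁ * a with hkdef
  have hk : k ∈ P.parabolic K :=
    mul_mem (B_le_parabolic K hb₁) ((mem_parabolic_N hK haN).2 ha)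
  have hg' : k⁻¹ * g * k ∈ P.parabolic K := mul_mem (mul_mem (inv_mem hk) hmin.1) hk
  have hdg : d⁻¹ * (k⁻¹ * g * k) * d ∈ P.parabolic J := by
    have e : d⁻¹ * (k⁻¹ * g * k) * d = b₂ * (c⁻¹ * g * c) * b₂⁻¹ := by
      rw [hce, hwd, hkdef]; group
    rw [e]
    exact mul_mem (mul_mem (B_le_parabolic J hb₂) hfix) (inv_mem (B_le_parabolic J hb₂))
  obtain ⟨v, hv, hgv⟩ := parabolic_cell hK hg'
  obtain ⟨j, hj, hgj⟩ := parabolic_cell hJ hdg
  have h1 := cell_mul (NJ_le hK hv) hd (hL.add hK hd hv) hgv (mem_cell_self d)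
  have h2 := cell_mul hd (NJ_le hJ hj) (hR.add hJ hd hj) (mem_cell_self d) hgj
  rw [← mul_assoc, mul_inv_cancel_left] at h2
  have hvK' := meet hK hJ hd hL hR hv hj
    (eqv_of_mem_cells (mul_mem (NJ_le hK hv) hd) (mul_mem hd (NJ_le hJ hj)) h1 h2)
  set L := {s | s ∈ K ∧ ∃ t ∈ J, Eqv P (s * d) (d * t)} with hLdef
  have hLK : L ⊆ K := fun s hs => hs.1
  have hLeq : L = K := hmin.2 L hLK k hk (cell_subset_parabolic (hLK.trans hK) hvK' hgv)
  have hmaps : Maps P K d := ⟨hL, fun s hs => by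
    rw [← hLeq] at hs
    obtain ⟨t, ht, e⟩ := hs.2
    exact ⟨t, hJ ht, e⟩⟩
  have hsub : image P K d ⊆ J := by
    rintro t ⟨htS, s, hs, e⟩
    rw [← hLeq] at hs
    obtain ⟨t', ht', e'⟩ := hs.2
    have h3 := (e.symm.trans e').mul_left d⁻¹
    rw [inv_mul_cancel_left, inv_mul_cancel_left] at h3
    rwa [eqv_simple_inj htS (hJ ht') h3]
  -- `w` is `d`
  have ha' := NJ_mono hsub (image_conj hK hd hmaps.map ha)
  have hdw : Eqv P d w := by
    have h3 := hR.eqv hJ hd ha' (by rwa [show d * (d⁻¹ * a * d) = w by rw [hwd]; group])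
    rwa [Eqv, show d⁻¹ * w = d⁻¹ * a * d by rw [hwd]; group]
  rw [← image_congr hdw]
  refine ⟨hmaps.congr hdw, hsub, ?_⟩
  rw [← hdw.cell_eq] at hc
  obtain ⟨c', hc', hgc⟩ := hmaps.cell_stable hK hd hmin.1 hc
  have h4 : c⁻¹ * c' ∈ P.B := by
    refine section_unique hJ hd hd hR hR hc hc' ?_
    rw [show c⁻¹ * c' = c⁻¹ * g * c * (c'⁻¹ * (g * c))⁻¹ by group]
    exact mul_mem hfix (inv_mem (parabolic_mono hsub hgc))
  rw [show c⁻¹ * g * c = c⁻¹ * c' * (c'⁻¹ * (g * c)) by group]
  exact mul_mem (B_le_parabolic _ h4) hgc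

/-- Fixed cosets through their minimal representatives. -/
theorem fixCount_eq {J : Set G} (hJ : J ⊆ P.S) (g : G) :
    fixCount P P.S J g = Nat.card {x : G ⧸ P.B //
      RMin P J (nC P x) ∧ x.out⁻¹ * g * x.out ∈ P.parabolic J} := by
  simp only [fixCount, Nat.cast_inj]
  have hfix : ∀ c : G, g • (c : G ⧸ P.parabolic J) = (c : G ⧸ P.parabolic J) ↔
      c⁻¹ * g * c ∈ P.parabolic J := fun c => by
    show ((g * c : G) : G ⧸ P.parabolic J) = (c : G ⧸ P.parabolic J) ↔ _
    rw [QuotientGroup.eq, ← inv_mem_iff, show ((g * c)⁻¹ * c)⁻¹ = c⁻¹ * g * c by group]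
  symm
  refine Nat.card_eq_of_bijective (fun x => ⟨(x.1.out : G ⧸ P.parabolic J),
    by simp [parabolic_S], (hfix _).2 x.2.2⟩) ⟨?_, ?_⟩
  · intro x x' e
    have h := section_unique hJ (nC_mem _) (nC_mem _) x.2.1 x'.2.1 (out_mem_cell _)
      (out_mem_cell _) (QuotientGroup.eq.1 (congrArg Subtype.val e))
    exact Subtype.ext (by
      rw [← QuotientGroup.out_eq' x.1, ← QuotientGroup.out_eq' x'.1]
      exact QuotientGroup.eq.2 h)
  · rintro ⟨y, -, hy⟩
    obtain ⟨c, w, hw, hmin, hc, hin⟩ := exists_section hJ y.out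
    obtain ⟨b, hb⟩ := QuotientGroup.mk_out_eq_mul P.B c
    have ey : ((c * b : G) : G ⧸ P.parabolic J) = y := by
      conv_rhs => rw [← QuotientGroup.out_eq' y]
      refine QuotientGroup.eq.2 ?_
      rw [mul_inv_rev, mul_assoc]
      exact mul_mem (inv_mem (B_le_parabolic J b.2)) hin
    refine ⟨⟨(c : G ⧸ P.B), hmin.congr hJ (nC_eqv hw hc).symm, ?_⟩, Subtype.ext ?_⟩
    · rw [hb, ← hfix, ey]
      exact hy
    · show (((c : G ⧸ P.B).out : G) : G ⧸ P.parabolic J) = y
      rw [hb, ey]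

theorem sum_interval {α : Type*} [DecidableEq α] {T A S : Finset α} (hT : T ⊆ A) (hA : A ⊆ S) :
    (∑ J ∈ S.powerset, if T ⊆ J ∧ J ⊆ A then (-1 : ℤ) ^ J.card else 0) =
      if T = A then (-1 : ℤ) ^ T.card else 0 := by
  rw [← Finset.sum_filter]
  have : S.powerset.filter (fun J => T ⊆ J ∧ J ⊆ A) = Finset.Icc T A := by
    ext J
    simp only [Finset.mem_filter, Finset.mem_powerset, Finset.mem_Icc]
    exact ⟨fun h => h.2, fun h => ⟨h.2.trans hA, h⟩⟩
  rw [this, Finset.Icc_eq_image_powerset hT, Finset.sum_image]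
  · have h : ∀ J ∈ (A \ T).powerset, (-1 : ℤ) ^ (T ∪ J).card = (-1) ^ T.card * (-1) ^ J.card := by
      intro J hJ
      rw [Finset.card_union_of_disjoint
        (Finset.disjoint_sdiff.mono_right (Finset.mem_powerset.1 hJ)), pow_add]
    rw [Finset.sum_congr rfl h, ← Finset.mul_sum, Finset.sum_powerset_neg_one_pow_card]
    by_cases hTA : T = A
    · simp [hTA]
    · rw [if_neg hTA, if_neg, mul_zero]
      exact fun h' => hTA (hT.antisymm (Finset.sdiff_eq_empty_iff_subset.1 h'))
  · intro a ha b hb e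
    have ha' := Finset.mem_powerset.1 (Finset.mem_coe.1 ha)
    have hb' := Finset.mem_powerset.1 (Finset.mem_coe.1 hb)
    have hd := Finset.disjoint_sdiff (s := T) (t := A)
    calc a = (T ∪ a) \ T := (Finset.union_sdiff_cancel_left (hd.mono_right ha')).symm
      _ = (T ∪ b) \ T := by rw [show T ∪ a = T ∪ b from e]
      _ = b := Finset.union_sdiff_cancel_left (hd.mono_right hb')

open _root_.Classical in
/-- Only the cell of `w_K w_0` survives in the alternating sum. -/
theorem stJ_minimal (hK : K ⊆ P.S) (hmin : Minimal P K g) :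
    stJ P (gens P) g = (-1 : ℤ) ^ K.ncard * Nat.card {x : G ⧸ P.B //
      Opp P K (nC P x) ∧ x.out⁻¹ * g * x.out ∈ P.parabolic (image P K (nC P x))} := by
  have : Fintype (G ⧸ P.B) := Fintype.ofFinite _
  have hg : ∀ {J : Finset G}, J ∈ (gens P).powerset → (J : Set G) ⊆ P.S := fun {J} hJ => by
    rw [← coe_gens P]; exact_mod_cast Finset.mem_powerset.1 hJ
  have h1 : ∀ J ∈ (gens P).powerset, (-1 : ℤ) ^ J.card * fixCount P P.S J g = ∑ x : G ⧸ P.B,
      if RMin P J (nC P x) ∧ x.out⁻¹ * g * x.out ∈ P.parabolic J then (-1 : ℤ) ^ J.card else 0 := by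
    intro J hJ
    rw [fixCount_eq (hg hJ), natCard_subtype_int, Finset.mul_sum]
    exact Finset.sum_congr rfl fun x _ => by rw [mul_ite, mul_one, mul_zero]
  rw [stJ, coe_gens, Finset.sum_congr rfl h1, Finset.sum_comm, natCard_subtype_int,
    Finset.mul_sum]
  refine Finset.sum_congr rfl fun x _ => ?_
  have hn := nC_mem (P := P) x
  by_cases hX : Maps P K (nC P x) ∧ x.out⁻¹ * g * x.out ∈ P.parabolic (image P K (nC P x))
  swap
  · rw [if_neg fun h => hX ⟨⟨h.1.lmin, h.1.map⟩, h.2⟩, mul_zero]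
    refine Finset.sum_eq_zero fun J hJ => if_neg fun h => hX ?_
    have := fixed_cell hK hmin (hg hJ) hn h.1 (out_mem_cell x) h.2
    exact ⟨this.1, this.2.2⟩
  obtain ⟨hmaps, hfix⟩ := hX
  set T := (image P K (nC P x)).toFinite.toFinset with hTdef
  have hcT : (T : Set G) = image P K (nC P x) := Set.Finite.coe_toFinset _
  set A := (gens P).filter fun s => len P (nC P x) ≤ len P (nC P x * s) with hAdef
  have hAg : A ⊆ gens P := Finset.filter_subset _ _
  have hTA : T ⊆ A := by
    intro t ht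
    have ht' : t ∈ image P K (nC P x) := by rw [← hcT]; exact ht
    rw [hAdef, Finset.mem_filter, ← Finset.mem_coe, coe_gens]
    exact ⟨ht'.1, hmaps.rmin_image hK hn t (mem_NJ ht')⟩
  rw [Finset.sum_congr rfl (g := fun J => if T ⊆ J ∧ J ⊆ A then (-1 : ℤ) ^ J.card else 0),
    sum_interval hTA hAg]
  · have hcard : T.card = K.ncard := by
      rw [← hmaps.ncard_image hK hn, ← hcT, Set.ncard_coe_finset]
    by_cases hopp : T = A
    · rw [if_pos hopp, if_pos, hcard, mul_one]
      refine ⟨⟨hn, hmaps.lmin, hmaps.map, fun t ht hlt => ?_⟩, hfix⟩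
      rw [← hcT, hopp, Finset.mem_coe, hAdef, Finset.mem_filter]
      exact ⟨by rwa [← Finset.mem_coe, coe_gens], hlt.le⟩
    · rw [if_neg hopp, if_neg, mul_zero]
      rintro ⟨hO, -⟩
      refine hopp (hTA.antisymm fun t ht => ?_)
      obtain ⟨htg, hle⟩ := Finset.mem_filter.1 ht
      have htS : t ∈ P.S := by rwa [← coe_gens P, Finset.mem_coe]
      rw [← Finset.mem_coe, hcT]
      refine hO.asc t htS ?_
      rcases len_right_up_or_down htS hn with h | h <;> omega
  · intro J hJ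
    have hJS := hg hJ
    refine if_congr ⟨fun h => ?_, fun h => ?_⟩ rfl rfl
    · have := fixed_cell hK hmin hJS hn h.1 (out_mem_cell x) h.2
      refine ⟨?_, fun s hs => Finset.mem_filter.2 ⟨Finset.mem_powerset.1 hJ hs,
        h.1 s (mem_NJ hs)⟩⟩
      rw [← Finset.coe_subset, hcT]
      exact this.2.1
    · refine ⟨(rmin_iff hJS hn).2 fun s hs => (Finset.mem_filter.1 (h.2 hs)).2,
        parabolic_mono ?_ hfix⟩
      rw [← hcT]
      exact Finset.coe_subset.2 h.1

end CfsgLib.BNSteinberg
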