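import Cfsg.Agent.Lib.BNSteinberg.Count

/-!
# The double coset representative `w_K w_0`

* `image K d`: the generators that `d` carries to those of `K`;
* `deodhar`: Deodhar's lemma for minimal left coset representatives;
* `Opp`: `d` carries `K` onto simple generators and ascends at their images only;
* `exists_opp`, `Opp.eqv_long`: such `d` is `w_K⁻¹ w_0` and unique.
-/

set_option autoImplicit false
set_option linter.unusedSectionVars false

namespace CfsgLib.BNSteinberg

open CfsgLib.Chev.BN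

variable {G : Type*} [Group G] [Finite G] {P : Cfsg.BNPair G}

theorem eqv_simple_inj {s t : G} (hs : s ∈ P.S) (ht : t ∈ P.S) (h : Eqv P s t) : s = t :=
  P.inj s hs t ht h.1

theorem exists_simple {n : G} (hn : n ∈ P.N) (h : len P n = 1) : ∃ s ∈ P.S, Eqv P s n := by
  obtain ⟨l, hl, hlen, he⟩ := exists_len hn
  rw [h] at hlen
  obtain ⟨t, rfl⟩ := List.length_eq_one_iff.1 hlen
  exact ⟨t, hl t (by simp), by simpa using he⟩

/-- The generators that `d` carries to those of `K`. -/
def image (P : Cfsg.BNPair G) (K : Set G) (d : G) : Set G :=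
  {t | t ∈ P.S ∧ ∃ s ∈ K, Eqv P (s * d) (d * t)}

theorem image_subset (K : Set G) (d : G) : image P K d ⊆ P.S := fun _ h => h.1

theorem LMin.rmin_inv {K : Set G} (hK : K ⊆ P.S) {d : G} (hd : d ∈ P.N) (h : LMin P K d) :
    RMin P K d⁻¹ := by
  intro v hv
  have := h v⁻¹ (inv_mem hv)
  rwa [len_inv hd, ← len_inv (mul_mem (inv_mem (NJ_le hK hv)) hd), mul_inv_rev, inv_inv] at *

theorem LMin.add {K : Set G} (hK : K ⊆ P.S) {d : G} (hd : d ∈ P.N) (h : LMin P K d) {v : G}
    (hv : v ∈ NJ P K) : len P (v * d) = len P v + len P d := by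
  have := (h.rmin_inv hK hd).add hK (inv_mem hd) (inv_mem hv)
  rw [← mul_inv_rev, len_inv (mul_mem (NJ_le hK hv) hd), len_inv hd,
    len_inv (NJ_le hK hv)] at this
  omega

/-- Deodhar's lemma. -/
theorem deodhar {J : Set G} (hJ : J ⊆ P.S) {d : G} (hd : d ∈ P.N) {s : G}
    (hs : s ∈ P.S) (hup : len P d < len P (s * d)) (hmin : RMin P J d) :
    RMin P J (s * d) ∨ ∃ t ∈ J, Eqv P (s * d) (d * t) := by
  have hsd := mul_mem (s_mem_N hs) hd
  by_cases h : ∀ t ∈ J, len P (s * d) ≤ len P (s * d * t)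
  · exact Or.inl ((rmin_iff hJ hsd).2 h)
  push Not at h
  obtain ⟨t, ht, hlt⟩ := h
  have htS := hJ ht
  have hdt : len P d < len P (d * t) := hmin.lt hJ hd ht
  obtain ⟨l, hl, hlen, he⟩ := exists_len hd
  have hw : IsWord P (l ++ [t]) := fun x hx =>
    (List.mem_append.1 hx).elim (hl x) fun h => by rw [List.mem_singleton.1 h]; exact htS
  have hlast := len_mul_right_le htS hd
  have hred : Red P (l ++ [t]) := ⟨hw, by
    rw [List.prod_append, List.prod_singleton, len_congr (he.mul_right (s_mem_N htS)),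
      List.length_append, List.length_singleton, hlen]
    omega⟩
  have hsdl := len_mul_le hs hd
  obtain ⟨i, hi, hie⟩ := exchange hs hred (by
    rw [List.prod_append, List.prod_singleton,
      len_congr ((he.mul_right (s_mem_N htS)).mul_left s), ← mul_assoc, List.length_append,
      List.length_singleton, hlen]
    omega)
  rw [List.prod_append, List.prod_singleton] at hie
  have h1 : Eqv P (s * d * t) (List.eraseIdx (l ++ [t]) i).prod := by
    refine Eqv.trans ?_ hie
    have := ((he.mul_right (s_mem_N htS)).mul_left s).symm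
    rwa [← mul_assoc] at this
  rcases Nat.lt_or_ge i l.length with hil | hil
  · exfalso
    rw [List.eraseIdx_append_of_lt_length hil, List.prod_append, List.prod_singleton] at h1
    have h2 := h1.mul_right (inv_mem (s_mem_N htS))
    rw [mul_inv_cancel_right, mul_inv_cancel_right] at h2
    have h3 := len_le_of_word (hl.sublist (List.eraseIdx_sublist l i)) h2.symm
    rw [List.length_eraseIdx_of_lt hil] at h3
    omega
  · refine Or.inr ⟨t, ht, ?_⟩
    rw [List.length_append, List.length_singleton] at hi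
    obtain rfl : i = l.length := by omega
    rw [List.eraseIdx_append_of_length_le le_rfl, Nat.sub_self, List.eraseIdx_zero,
      List.tail_cons, List.append_nil] at h1
    exact (eqv_twice_right htS).symm.trans ((h1.trans he).mul_right (s_mem_N htS))

/-- `v` in the group of `K` is carried by `d` into that of the image. -/
theorem image_conj {K : Set G} (_hK : K ⊆ P.S) {d : G} (hd : d ∈ P.N)
    (hmap : ∀ s ∈ K, ∃ t ∈ P.S, Eqv P (s * d) (d * t)) {v : G} (hv : v ∈ NJ P K) :
    d⁻¹ * v * d ∈ NJ P (image P K d) := by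
  suffices NJ P K ≤ (NJ P (image P K d)).comap (MulAut.conj d⁻¹).toMonoidHom by
    simpa using this hv
  refine sup_le ((Subgroup.closure_le _).2 fun s hs => ?_) fun x hx => ?_
  · obtain ⟨t, ht, e⟩ := hmap s hs
    have h1 : Eqv P (d⁻¹ * s * d) t := by
      have := e.mul_left d⁻¹
      rwa [← mul_assoc, inv_mul_cancel_left] at this
    show (MulAut.conj d⁻¹) s ∈ NJ P (image P K d)
    rw [MulAut.conj_apply, inv_inv]
    exact eqv_mem_NJ h1.symm (mem_NJ ⟨ht, s, hs, e⟩)
  · show (MulAut.conj d⁻¹) x ∈ NJ P (image P K d)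
    rw [MulAut.conj_apply, inv_inv]
    exact Subgroup.mem_sup_right (conj_mem_H' hd hx)

/-- `d` carries `K` onto simple generators and ascends at their images only. -/
structure Opp (P : Cfsg.BNPair G) (K : Set G) (d : G) : Prop where
  mem : d ∈ P.N
  lmin : LMin P K d
  map : ∀ s ∈ K, ∃ t ∈ P.S, Eqv P (s * d) (d * t)
  asc : ∀ t ∈ P.S, len P d < len P (d * t) → t ∈ image P K d

theorem Opp.congr {K : Set G} {d d' : G} (h : Opp P K d) (e : Eqv P d d') : Opp P K d' where
  mem := e.mem_N h.mem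
  lmin := h.lmin.congr e
  map s hs := by
    obtain ⟨t, ht, he⟩ := h.map s hs
    exact ⟨t, ht, ((e.symm.mul_left s).trans he).trans (e.mul_right (s_mem_N ht))⟩
  asc t ht hlt := by
    rw [← len_congr e, ← len_congr (e.mul_right (s_mem_N ht))] at hlt
    obtain ⟨-, s, hs, he⟩ := h.asc t ht hlt
    exact ⟨ht, s, hs, ((e.symm.mul_left s).trans he).trans (e.mul_right (s_mem_N ht))⟩

theorem Opp.longJ {K : Set G} (hK : K ⊆ P.S) {d : G} (h : Opp P K d) {w : G} (hw : w ∈ NJ P K)
    (hlong : LongJ P K w) : LongJ P P.S (w * d) := by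
  intro t ht
  rw [h.lmin.add hK h.mem hw, mul_assoc]
  rcases len_right_up_or_down ht h.mem with hup | hdown
  · obtain ⟨-, s, hs, e⟩ := h.asc t ht (by omega)
    rw [← len_congr (e.mul_left w), ← mul_assoc,
      h.lmin.add hK h.mem (mul_mem hw (mem_NJ hs))]
    have := hlong s hs
    omega
  · have := len_mul_le_add (NJ_le hK hw) (mul_mem h.mem (s_mem_N ht))
    omega

theorem Opp.eqv_long {K : Set G} (hK : K ⊆ P.S) {d d' : G} (h : Opp P K d) (h' : Opp P K d') :
    Eqv P d d' := by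
  obtain ⟨w, hw, hlong⟩ := exists_long (P := P) hK
  have hwN := NJ_le hK hw
  have e := LongJ.eqv' (subset_refl P.S)
    (by rw [NJ_S]; exact mul_mem hwN h.mem) (h.longJ hK hw hlong)
    (by rw [NJ_S]; exact mul_mem hwN h'.mem) (h'.longJ hK hw hlong)
  have := e.mul_left w⁻¹
  rwa [inv_mul_cancel_left, inv_mul_cancel_left] at this

theorem exists_opp {K : Set G} (hK : K ⊆ P.S) : ∃ d, Opp P K d := by
  obtain ⟨w, hw, hlong⟩ := exists_long (P := P) hK
  obtain ⟨w₀, hw₀', hlong₀⟩ := exists_long (P := P) (subset_refl P.S)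
  have hwN := NJ_le hK hw
  have hw₀ : w₀ ∈ P.N := NJ_le subset_rfl hw₀'
  have hw' := inv_mem hw
  have hlong' : LongJ P K w⁻¹ := fun s hs => by
    rw [len_inv hwN, ← len_inv (mul_mem (inv_mem hwN) (s_mem_N (hK hs))), mul_inv_rev, inv_inv,
      len_congr ((eqv_inv_self (hK hs)).symm.mul_right hwN)]
    exact hlong.left hK hw s hs
  have hlong₀' : ∀ s ∈ P.S, len P (s * w₀) < len P w₀ := hlong₀.left subset_rfl hw₀'
  have hsub : ∀ x ∈ P.N, len P (x * w₀) + len P x = len P w₀ := fun x hx =>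
    long_left subset_rfl hw₀' hlong₀' x (by rw [NJ_S]; exact hx)
  -- conjugation by `w₀` and by `w` keeps the length of a generator
  have hc₀ : ∀ t ∈ P.S, len P (w₀ * t * w₀⁻¹) = 1 := fun t ht => by
    have h1 := hlong₀ t ht
    have h2 := len_right_up_or_down ht hw₀
    have h3 := (hlong₀.sub subset_rfl hw₀' (x := w₀⁻¹) (by rw [NJ_S]; exact inv_mem hw₀))
    have h4 := long_left subset_rfl (inv_mem hw₀') (fun s hs => by
      rw [len_inv hw₀, ← len_inv (mul_mem (s_mem_N hs) (inv_mem hw₀)), mul_inv_rev, inv_inv,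
        len_congr ((eqv_inv_self hs).symm.mul_left w₀)]
      exact hlong₀ s hs) (w₀ * t) (by rw [NJ_S]; exact mul_mem hw₀ (s_mem_N ht))
    rw [len_inv hw₀] at h4
    omega
  have hc₀' : ∀ s ∈ P.S, len P (w₀⁻¹ * s * w₀) = 1 := fun s hs => by
    have h1 := hlong₀' s hs
    have h2 := len_up_or_down hs hw₀
    have h4 := hsub (w₀⁻¹ * s) (mul_mem (inv_mem hw₀) (s_mem_N hs))
    have h5 : len P (w₀⁻¹ * s) = len P (s * w₀) := by
      rw [← len_inv (mul_mem (inv_mem hw₀) (s_mem_N hs)), mul_inv_rev, inv_inv,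
        len_congr ((eqv_inv_self hs).symm.mul_right hw₀)]
    omega
  have hcK : ∀ s ∈ K, len P (w⁻¹ * s * w) = 1 ∧ len P (w * s * w⁻¹) = 1 := fun s hs => by
    refine ⟨?_, ?_⟩
    · have h1 := hlong.left hK hw s hs
      have h2 := len_up_or_down (hK hs) hwN
      have h4 := long_left hK hw (hlong.left hK hw) (w⁻¹ * s) (mul_mem hw' (mem_NJ hs))
      have h5 : len P (w⁻¹ * s) = len P (s * w) := by
        rw [← len_inv (mul_mem (inv_mem hwN) (s_mem_N (hK hs))), mul_inv_rev, inv_inv,
          len_congr ((eqv_inv_self (hK hs)).symm.mul_right hwN)]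
      omega
    · have h1 := hlong s hs
      have h2 := len_right_up_or_down (hK hs) hwN
      have h4 := long_left hK hw' (hlong'.left hK hw') (w * s) (mul_mem hw (mem_NJ hs))
      rw [len_inv hwN] at h4
      omega
  refine ⟨w⁻¹ * w₀, mul_mem (inv_mem hwN) hw₀, fun v hv => ?_, fun s hs => ?_, fun t ht hlt => ?_⟩
  · have hvN := NJ_le hK hv
    have h1 := hsub (v * w⁻¹) (mul_mem hvN (inv_mem hwN))
    have h2 := hsub w⁻¹ (inv_mem hwN)
    rw [mul_assoc] at h1
    have h3 := hlong.le hK hw (mul_mem hv hw')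
    rw [len_inv hwN] at h2
    omega
  · obtain ⟨s', hs', e'⟩ := exists_simple (mul_mem (mul_mem hwN (s_mem_N (hK hs))) (inv_mem hwN))
      (hcK s hs).2
    obtain ⟨t, ht, e⟩ := exists_simple (mul_mem (mul_mem (inv_mem hw₀) (s_mem_N hs')) hw₀)
      (hc₀' s' hs')
    refine ⟨t, ht, ?_⟩
    have h1 := (e.trans ((e'.mul_left w₀⁻¹).mul_right hw₀)).mul_left (w⁻¹ * w₀)
    refine Eqv.symm ?_
    rwa [show w⁻¹ * w₀ * (w₀⁻¹ * (w * s * w⁻¹) * w₀) = s * (w⁻¹ * w₀) by group] at h1
  · obtain ⟨s, hs, e⟩ := exists_simple (mul_mem (mul_mem hw₀ (s_mem_N ht)) (inv_mem hw₀))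
      (hc₀ t ht)
    have hdt : Eqv P (w⁻¹ * w₀ * t) (w⁻¹ * s * w₀) := by
      have := ((e.mul_left w⁻¹).mul_right hw₀).symm
      rwa [show w⁻¹ * (w₀ * t * w₀⁻¹) * w₀ = w⁻¹ * w₀ * t by group] at this
    rw [len_congr hdt] at hlt
    have h1 := hsub (w⁻¹ * s) (mul_mem (inv_mem hwN) (s_mem_N hs))
    have h2 := hsub w⁻¹ (inv_mem hwN)
    have h5 : len P (w⁻¹ * s) = len P (s * w) := by
      rw [← len_inv (mul_mem (inv_mem hwN) (s_mem_N hs)), mul_inv_rev, inv_inv,
        len_congr ((eqv_inv_self hs).symm.mul_right hwN)]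
    rw [len_inv hwN] at h2
    obtain ⟨m, hm, hred, he⟩ := exists_red_subset hK hw
    obtain ⟨i, hi, hie⟩ := exchange hs hred (by
      rw [len_congr (he.mul_left s), ← hred.2, len_congr he]
      omega)
    have hmem : s * w ∈ NJ P K := eqv_mem_NJ (hie.symm.trans (he.mul_left s))
      (prod_mem_NJ fun x hx => hm x ((List.eraseIdx_sublist m i).subset hx))
    have hsK : s ∈ K := s_mem_J hK hs (by
      have := mul_mem hmem (inv_mem hw)
      rwa [mul_inv_cancel_right] at this)
    obtain ⟨s', hs', e'⟩ :=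
      exists_simple (mul_mem (mul_mem (inv_mem hwN) (s_mem_N hs)) hwN) (hcK s hsK).1
    have hs'K : s' ∈ K := s_mem_J hK hs' (eqv_mem_NJ e'.symm
      (mul_mem (mul_mem hw' (mem_NJ hsK)) hw))
    refine ⟨ht, s', hs'K, ?_⟩
    refine ((e'.mul_right (mul_mem (inv_mem hwN) hw₀)).trans ?_).trans hdt.symm
    rw [show w⁻¹ * s * w * (w⁻¹ * w₀) = w⁻¹ * s * w₀ by group]
    exact Eqv.refl _

end CfsgLib.BNSteinberg
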