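import Cfsg.Agent.Lib.BNSteinberg.Regular.Fixed
import Cfsg.Agent.Lib.Char.Integral
import Cfsg.Agent.Lib.Solvable.SchurZassenhaus

/-!
# The Steinberg character at an element of order prime to `p`

Its value is, up to sign, the `p`-part of the order of the centralizer.
-/

set_option autoImplicit false
set_option linter.unusedSectionVars false

namespace CfsgLib.BNSteinberg

open CfsgLib.Chev.BN

variable {G : Type*} [Group G] [Finite G] {P : Cfsg.BNPair G} {p : ℕ} {U : Subgroup G}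

/-- The elements of `U` fixing every chamber of the parabolic subgroup of `K`. -/
def unipPart (P : Cfsg.BNPair G) (U : Subgroup G) (K : Set G) : Subgroup G where
  carrier := {u | u ∈ U ∧ AllFix P K u}
  one_mem' := ⟨one_mem _, fun h _ => by simp⟩
  mul_mem' {a b} ha hb := ⟨mul_mem ha.1 hb.1, fun h hh => by
    rw [show h⁻¹ * (a * b) * h = h⁻¹ * a * h * (h⁻¹ * b * h) by group]
    exact mul_mem (ha.2 h hh) (hb.2 h hh)⟩
  inv_mem' {a} ha := ⟨inv_mem ha.1, fun h hh => by
    rw [show h⁻¹ * a⁻¹ * h = (h⁻¹ * a * h)⁻¹ by group]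
    exact inv_mem (ha.2 h hh)⟩

variable {K : Set G}

theorem Split.unipPart_conj (hs : Split P p U) {k u : G} (hk : k ∈ P.parabolic K)
    (hu : u ∈ unipPart P U K) : k⁻¹ * u * k ∈ unipPart P U K :=
  ⟨hs.conj_U hu.1 (hu.2 k hk), fun h hh => by
    rw [show h⁻¹ * (k⁻¹ * u * k) * h = (k * h)⁻¹ * u * (k * h) by group]
    exact hu.2 _ (mul_mem hk hh)⟩

theorem Split.unipPart_conj_iff (hs : Split P p U) {k u : G} (hk : k ∈ P.parabolic K) :
    k * u * k⁻¹ ∈ unipPart P U K ↔ u ∈ unipPart P U K := by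
  refine ⟨fun h => ?_, fun h => ?_⟩
  · simpa [mul_assoc] using hs.unipPart_conj hk h
  · simpa using hs.unipPart_conj (inv_mem hk) h

theorem Split.unipPart_pGroup (hs : Split P p U) : IsPGroup p (unipPart P U K) :=
  hs.pgroup.to_le fun _ h => h.1

/-- The cell of `w_K w_0` is no larger than `U_K`. -/
theorem Split.card_cell_le (hs : Split P p U) (hK : K ⊆ P.S) {d : G} (hd : Opp P K d) :
    Nat.card {x : G ⧸ P.B // Eqv P (nC P x) d} ≤ Nat.card (unipPart P U K) := by
  obtain ⟨w, hw, hlong⟩ := exists_long (P := P) hK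
  have hwN := NJ_le hK hw
  have hlongS := hd.longJ hK hw hlong
  have hadd := hd.lmin.add hK hd.mem hw
  have hwd : w * d ∈ P.N := mul_mem hwN hd.mem
  have h1 : Nat.card ({x : G ⧸ P.B // LongCell P K x} × {x : G ⧸ P.B // Eqv P (nC P x) d}) ≤
      Nat.card {x : G ⧸ P.B // LongJ P P.S (nC P x)} := by
    have hcell : ∀ (x : {x : G ⧸ P.B // LongCell P K x}) (y : {x : G ⧸ P.B // Eqv P (nC P x) d}),
        x.1.out * y.1.out ∈ cell P (w * d) := fun x y =>
      cell_mul hwN hd.mem hadd (longCell_cell hK hw hlong x.2)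
        (y.2.cell_eq ▸ out_mem_cell y.1)
    refine Nat.card_le_card_of_injective (fun z => ⟨((z.1.1.out * z.2.1.out : G) : G ⧸ P.B),
      longJ_congr subset_rfl (nC_eqv hwd (hcell z.1 z.2)).symm hlongS⟩) ?_
    rintro ⟨x, y⟩ ⟨x', y'⟩ e
    have e' : (x.1.out * y.1.out)⁻¹ * (x'.1.out * y'.1.out) ∈ P.B :=
      QuotientGroup.eq.1 (congrArg Subtype.val e)
    have hx : x = x' := by
      refine Subtype.ext ?_
      rw [← QuotientGroup.out_eq' x.1, ← QuotientGroup.out_eq' x'.1]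
      exact QuotientGroup.eq.2 (factor_unique hwN hd.mem hadd (longCell_cell hK hw hlong x.2)
        (longCell_cell hK hw hlong x'.2) (y.2.cell_eq ▸ out_mem_cell y.1)
        (y'.2.cell_eq ▸ out_mem_cell y'.1) e')
    subst hx
    refine Prod.ext rfl (Subtype.ext ?_)
    rw [← QuotientGroup.out_eq' y.1, ← QuotientGroup.out_eq' y'.1]
    refine QuotientGroup.eq.2 ?_
    rwa [mul_inv_rev, mul_assoc, inv_mul_cancel_left] at e'
  rw [Nat.card_prod, hs.card_long, ← hs.card_long_mul hK] at h1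
  have : Nonempty {x : G ⧸ P.B // LongCell P K x} :=
    ⟨⟨(w : G ⧸ P.B), (out_mk_mem (B_le_parabolic K) _).2 ((mem_parabolic_N hK hwN).2 hw),
      longJ_congr hK (nC_eqv hwN (mem_cell_self w)).symm hlong⟩⟩
  exact Nat.le_of_mul_le_mul_left h1 Nat.card_pos

/-- The chambers of that cell that `g` fixes modulo the image of `K` number `|C_{U_K}(g)|`. -/
theorem Split.card_fixed (hs : Split P p U) [Fact p.Prime] (hK : K ⊆ P.S) {d : G}
    (hd : Opp P K d) {g : G} (hgK : g ∈ P.parabolic K) (hg : ¬ p ∣ orderOf g) :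
    Nat.card {x : G ⧸ P.B //
      Eqv P (nC P x) d ∧ x.out⁻¹ * g * x.out ∈ P.parabolic (image P K d)} =
      Nat.card ↥(unipPart P U K ⊓ Subgroup.centralizer ({g} : Set G)) := by
  set J := image P K d with hJdef
  set UK := unipPart P U K with hUK
  have hJ : J ⊆ P.S := image_subset K d
  have hdN := hd.mem
  have hmaps : Maps P K d := ⟨hd.lmin, hd.map⟩
  have hR : RMin P J d := hmaps.rmin_image hK hdN
  obtain ⟨w, hw, hlong⟩ := exists_long (P := P) hK
  have hwN := NJ_le hK hw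
  -- distinct elements of `U_K` move `d` to distinct cosets of the parabolic subgroup
  have hfree : ∀ a ∈ UK, ∀ c ∈ cell P d,
      ((a * c : G) : G ⧸ P.parabolic J) = (c : G ⧸ P.parabolic J) → a = 1 := by
    intro a ha c hc e
    have h1 := section_unique hJ hdN hdN hR hR (mul_mem_cell (hs.le ha.1) hc) hc
      (QuotientGroup.eq.1 e)
    obtain ⟨b, hb, b', hb', rfl⟩ := mem_cell.1 hc
    have hbK : b ∈ P.parabolic K := B_le_parabolic K hb
    have hwK : w ∈ P.parabolic K := (mem_parabolic_N hK hwN).2 hw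
    have ha'' := hs.unipPart_conj (inv_mem hwK) (hs.unipPart_conj hbK ha)
    rw [inv_inv] at ha''
    have h2 : w * (b⁻¹ * a * b) * w⁻¹ = 1 := by
      refine hs.opp_of_long (mul_mem hwN hdN) (hd.longJ hK hw hlong) ha''.1 ?_
      have := mul_mem (mul_mem hb' (inv_mem h1)) (inv_mem hb')
      rwa [show b' * ((a * (b * d * b'))⁻¹ * (b * d * b'))⁻¹ * b'⁻¹ =
        (w * d)⁻¹ * (w * (b⁻¹ * a * b) * w⁻¹) * (w * d) by group] at this
    rw [conj_eq_one_iff] at h2
    have h3 : b⁻¹ * a * b⁻¹⁻¹ = 1 := by rwa [inv_inv]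
    exact conj_eq_one_iff.1 h3
  -- every chamber of the cell is a translate of `d`
  let f : ↥UK → {x : G ⧸ P.B // Eqv P (nC P x) d} := fun u =>
    ⟨(((u : G) * d : G) : G ⧸ P.B), nC_eqv hdN (mul_mem_cell (hs.le u.2.1) (mem_cell_self d))⟩
  have hfinj : Function.Injective f := by
    intro u v e
    have h1 := QuotientGroup.eq.1 (congrArg Subtype.val e)
    refine Subtype.ext (inv_mul_eq_one.1 ?_)
    refine hfree _ (mul_mem (inv_mem u.2) v.2) d (mem_cell_self d) (QuotientGroup.eq.2 ?_)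
    rw [show ((u : G)⁻¹ * (v : G) * d)⁻¹ * d = (((u : G) * d)⁻¹ * ((v : G) * d))⁻¹ by group]
    exact inv_mem (B_le_parabolic J h1)
  have hf : Function.Bijective f :=
    hfinj.bijective_of_nat_card_le (hs.card_cell_le hK hd)
  have hsurj : ∀ c ∈ cell P d, ∃ u ∈ UK, (u * d)⁻¹ * c ∈ P.B := fun c hc => by
    obtain ⟨u, hu⟩ := hf.2 ⟨(c : G ⧸ P.B), nC_eqv hdN hc⟩
    exact ⟨u, u.2, QuotientGroup.eq.1 (congrArg Subtype.val hu)⟩
  -- a fixed coset
  obtain ⟨c₀, hc₀, hgc⟩ := hmaps.cell_stable hK hdN hgK (mem_cell_self d)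
  obtain ⟨u₁, hu₁, hu₁c⟩ := hsurj c₀ hc₀
  set y₀ : G ⧸ P.parabolic J := (d : G ⧸ P.parabolic J) with hy₀
  set M : Subgroup G := UK ⊔ Subgroup.zpowers g with hMdef
  set A : Subgroup G := M ⊓ MulAction.stabilizer G y₀ with hA
  have hMK : M ≤ Subgroup.normalizer (UK : Set G) := by
    refine sup_le Subgroup.le_normalizer ((Subgroup.zpowers_le).2 ?_)
    rw [Subgroup.mem_normalizer_iff]
    intro u
    exact (hs.unipPart_conj_iff hgK).symm
  have hdisj : UK ⊓ A = ⊥ := by
    refine (Subgroup.eq_bot_iff_forall _).2 fun u hu => hfree u hu.1 d (mem_cell_self d) ?_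
    exact MulAction.mem_stabilizer_iff.1 hu.2.2
  have hB : Subgroup.zpowers g ≤ UK ⊔ A := by
    rw [Subgroup.zpowers_le]
    have hst : u₁⁻¹ * g ∈ A := by
      refine Subgroup.mem_inf.2 ⟨mul_mem (inv_mem (Subgroup.mem_sup_left hu₁))
        (Subgroup.mem_sup_right (Subgroup.mem_zpowers g)), ?_⟩
      rw [MulAction.mem_stabilizer_iff, hy₀]
      show ((u₁⁻¹ * g * d : G) : G ⧸ P.parabolic J) = _
      refine QuotientGroup.eq.2 ?_
      rw [show (u₁⁻¹ * g * d)⁻¹ * d = ((u₁ * d)⁻¹ * c₀ * (c₀⁻¹ * (g * d)))⁻¹ by group]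
      exact inv_mem (mul_mem (B_le_parabolic J hu₁c) hgc)
    have := mul_mem (Subgroup.mem_sup_left (T := A) hu₁) (Subgroup.mem_sup_right (S := UK) hst)
    rwa [mul_inv_cancel_left] at this
  have hcop : (Nat.card UK).Coprime (Nat.card (Subgroup.zpowers g)) := by
    obtain ⟨n, hn⟩ := IsPGroup.iff_card.1 (hs.unipPart_pGroup (K := K))
    rw [hn, Nat.card_zpowers]
    exact Nat.Coprime.pow_left n ((Nat.Prime.coprime_iff_not_dvd Fact.out).2 hg)
  obtain ⟨k, hk, hkA⟩ := CfsgLib.Solvable.exists_conj_le UK A (Subgroup.zpowers g)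
    (inf_le_left.trans hMK) hdisj hB hcop (Or.inr inferInstance)
  have hfix : g • ((k⁻¹ * d : G) : G ⧸ P.parabolic J) = ((k⁻¹ * d : G) : G ⧸ P.parabolic J) := by
    have h1 : k * g * k⁻¹ ∈ A := hkA (by
      rw [Subgroup.mem_pointwise_smul_iff_inv_smul_mem]
      simp [mul_assoc, Subgroup.mem_zpowers g])
    have h2 : ((k * g * k⁻¹ * d : G) : G ⧸ P.parabolic J) = (d : G ⧸ P.parabolic J) :=
      MulAction.mem_stabilizer_iff.1 h1.2
    show ((g * (k⁻¹ * d) : G) : G ⧸ P.parabolic J) = _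
    have h3 := congrArg (fun y : G ⧸ P.parabolic J => k⁻¹ • y) h2
    change ((k⁻¹ * (k * g * k⁻¹ * d) : G) : G ⧸ P.parabolic J) =
      ((k⁻¹ * d : G) : G ⧸ P.parabolic J) at h3
    rwa [show k⁻¹ * (k * g * k⁻¹ * d) = g * (k⁻¹ * d) by group] at h3
  -- the fixed cosets are the translates of that one by `C_{U_K}(g)`
  have hmem : ∀ c : G, g • (c : G ⧸ P.parabolic J) = (c : G ⧸ P.parabolic J) ↔
      c⁻¹ * g * c ∈ P.parabolic J := fun c => by
    show ((g * c : G) : G ⧸ P.parabolic J) = (c : G ⧸ P.parabolic J) ↔ _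
    rw [QuotientGroup.eq, ← inv_mem_iff, show ((g * c)⁻¹ * c)⁻¹ = c⁻¹ * g * c by group]
  have hmk : ∀ c : G, (((c : G ⧸ P.B).out : G) : G ⧸ P.parabolic J) = (c : G ⧸ P.parabolic J) := by
    intro c
    obtain ⟨b, hb⟩ := QuotientGroup.mk_out_eq_mul P.B c
    rw [hb]
    refine QuotientGroup.eq.2 ?_
    rw [mul_inv_rev, inv_mul_cancel_right]
    exact inv_mem (B_le_parabolic J b.2)
  have hcd : ∀ u ∈ UK, u * k⁻¹ * d ∈ cell P d := fun u hu =>
    mul_mem_cell (hs.le (mul_mem hu (inv_mem hk)).1) (mem_cell_self d)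
  symm
  refine Nat.card_eq_of_bijective (fun u => ⟨(((u : G) * k⁻¹ * d : G) : G ⧸ P.B),
    nC_eqv hdN (hcd _ u.2.1), ?_⟩) ⟨?_, ?_⟩
  · rw [← hmem, hmk]
    have hcomm : g * (u : G) = (u : G) * g :=
      (Subgroup.mem_centralizer_iff.1 u.2.2) g rfl
    have h1 := congrArg (fun y : G ⧸ P.parabolic J => (u : G) • y) hfix
    change (((u : G) * (g * (k⁻¹ * d)) : G) : G ⧸ P.parabolic J) =
      (((u : G) * (k⁻¹ * d) : G) : G ⧸ P.parabolic J) at h1
    rw [← mul_assoc (u : G) g, ← hcomm] at h1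
    show ((g * ((u : G) * k⁻¹ * d) : G) : G ⧸ P.parabolic J) = _
    rwa [mul_assoc g, ← mul_assoc (u : G)] at h1
  · intro u v e
    have h1 : f ⟨(u : G) * k⁻¹, mul_mem u.2.1 (inv_mem hk)⟩ =
        f ⟨(v : G) * k⁻¹, mul_mem v.2.1 (inv_mem hk)⟩ :=
      Subtype.ext (congrArg Subtype.val e :)
    exact Subtype.ext (mul_right_cancel (congrArg Subtype.val (hfinj h1)))
  · rintro ⟨x, hx, hxg⟩
    obtain ⟨v, hv, hvx⟩ := hsurj x.out (hx.cell_eq ▸ out_mem_cell x)
    have hxv : x = ((v * d : G) : G ⧸ P.B) := by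
      conv_lhs => rw [← QuotientGroup.out_eq' x]
      exact (QuotientGroup.eq.2 hvx).symm
    subst hxv
    rw [← hmem, hmk] at hxg
    set u := v * k with hu
    have huK : u ∈ UK := mul_mem hv hk
    have hgu : g * u * g⁻¹ ∈ UK := (hs.unipPart_conj_iff hgK).2 huK
    have hcomm : g * u * g⁻¹ = u := by
      refine (inv_mul_eq_one.1 (hfree (u⁻¹ * (g * u * g⁻¹)) (mul_mem (inv_mem huK) hgu)
        (k⁻¹ * d) (mul_mem_cell (hs.le (inv_mem hk).1) (mem_cell_self d)) ?_)).symm
      have h1 : ((g * (v * d) : G) : G ⧸ P.parabolic J) = ((v * d : G) : G ⧸ P.parabolic J) := hxg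
      have h2 : ((g * u * g⁻¹ * (k⁻¹ * d) : G) : G ⧸ P.parabolic J) =
          ((v * d : G) : G ⧸ P.parabolic J) := by
        have h3 : ((g⁻¹ * (k⁻¹ * d) : G) : G ⧸ P.parabolic J) =
            ((k⁻¹ * d : G) : G ⧸ P.parabolic J) := inv_smul_eq_iff.2 hfix.symm
        have h4 := congrArg (fun y : G ⧸ P.parabolic J => (g * u) • y) h3
        change ((g * u * (g⁻¹ * (k⁻¹ * d)) : G) : G ⧸ P.parabolic J) =
          ((g * u * (k⁻¹ * d) : G) : G ⧸ P.parabolic J) at h4
        rw [← mul_assoc] at h4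
        rw [h4, ← h1, hu]
        congr 1
        group
      have h5 := congrArg (fun y : G ⧸ P.parabolic J => u⁻¹ • y) h2
      change ((u⁻¹ * (g * u * g⁻¹ * (k⁻¹ * d)) : G) : G ⧸ P.parabolic J) =
        ((u⁻¹ * (v * d) : G) : G ⧸ P.parabolic J) at h5
      rw [← mul_assoc u⁻¹] at h5
      rw [h5, hu]
      congr 1
      group
    refine ⟨⟨u, huK, Subgroup.mem_centralizer_singleton_iff.2 ?_⟩, Subtype.ext ?_⟩
    · exact mul_inv_eq_iff_eq_mul.1 hcomm |>.symm
    · show ((u * k⁻¹ * d : G) : G ⧸ P.B) = _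
      rw [hu, mul_inv_cancel_right]

/-- The value at an element of order prime to `p`. -/
theorem Split.stJ_regular (hs : Split P p U) [Fact p.Prime] {g : G} (hg : ¬ p ∣ orderOf g) :
    stJ P (gens P) g =
        (p ^ (Nat.card ↥(Subgroup.centralizer ({g} : Set G))).factorization p : ℕ) ∨
      stJ P (gens P) g =
        -(p ^ (Nat.card ↥(Subgroup.centralizer ({g} : Set G))).factorization p : ℕ) := by
  classical
  have hp : p.Prime := Fact.out
  have := Fintype.ofFinite G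
  -- a least parabolic subgroup
  have hex : ∃ n, ∃ L ⊆ P.S, L.ncard = n ∧ ∃ k : G, k⁻¹ * g * k ∈ P.parabolic L :=
    ⟨_, P.S, subset_rfl, rfl, 1, by simp [parabolic_S]⟩
  obtain ⟨K, hK, hKn, k, hk⟩ := Nat.find_spec hex
  set g' := k⁻¹ * g * k with hg'def
  have hmin : Minimal P K g' := ⟨hk, fun L hL m _ hm => by
    refine Set.eq_of_subset_of_ncard_le hL ?_ (Set.toFinite K)
    rw [hKn]
    refine Nat.find_le ⟨L, hL.trans hK, rfl, k * m, ?_⟩
    rwa [show (k * m)⁻¹ * g * (k * m) = m⁻¹ * g' * m by rw [hg'def]; group]⟩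
  have hval : stJ P (gens P) g = stJ P (gens P) g' := by
    conv_lhs => rw [show g = k * g' * k⁻¹ by rw [hg'def]; group]
    exact stJ_conj (by rw [coe_gens, parabolic_S]; exact Subgroup.mem_top k) g'
  obtain ⟨d, hd⟩ := exists_opp (P := P) hK
  have hgo : ¬ p ∣ orderOf g' := by
    have : orderOf g' = orderOf g := by
      rw [hg'def, show k⁻¹ * g * k = MulAut.conj k⁻¹ g by simp, MulEquiv.orderOf_eq]
    rwa [this]
  have hN : Nat.card {x : G ⧸ P.B //
      Opp P K (nC P x) ∧ x.out⁻¹ * g' * x.out ∈ P.parabolic (image P K (nC P x))} =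
      Nat.card ↥(unipPart P U K ⊓ Subgroup.centralizer ({g'} : Set G)) := by
    rw [← hs.card_fixed hK hd hk hgo]
    refine Nat.card_congr (Equiv.subtypeEquivRight fun x => ⟨fun h => ?_, fun h => ?_⟩)
    · have e := h.1.eqv_long hK hd
      exact ⟨e, image_congr (K := K) e ▸ h.2⟩
    · exact ⟨hd.congr h.1.symm, (image_congr (K := K) h.1).symm ▸ h.2⟩
  obtain ⟨n, hn⟩ := IsPGroup.iff_card.1
    ((hs.unipPart_pGroup (K := K)).to_le (inf_le_left (b := Subgroup.centralizer ({g'} : Set G))))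
  have h1 : stJ P (gens P) g = (-1 : ℤ) ^ K.ncard * (p ^ n : ℕ) := by
    rw [hval, stJ_minimal hK hmin, hN, hn]
  -- the centralizer
  set C := Subgroup.centralizer ({g} : Set G) with hC
  have hCC : Nat.card ↥(Subgroup.centralizer ({g'} : Set G)) = Nat.card ↥C := by
    refine Nat.card_congr
      { toFun := fun x => ⟨k * x.1 * k⁻¹, ?_⟩
        invFun := fun x => ⟨k⁻¹ * x.1 * k, ?_⟩
        left_inv := fun x => Subtype.ext (by group)
        right_inv := fun x => Subtype.ext (by group) }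
    · obtain ⟨y, hy⟩ := x
      have hy' := Subgroup.mem_centralizer_singleton_iff.1 hy
      rw [hC, Subgroup.mem_centralizer_singleton_iff]
      show k * y * k⁻¹ * g = g * (k * y * k⁻¹)
      calc k * y * k⁻¹ * g = k * (y * (k⁻¹ * g * k)) * k⁻¹ := by group
        _ = k * ((k⁻¹ * g * k) * y) * k⁻¹ := by rw [hy']
        _ = g * (k * y * k⁻¹) := by group
    · obtain ⟨y, hy⟩ := x
      have hy' := Subgroup.mem_centralizer_singleton_iff.1 hy
      rw [Subgroup.mem_centralizer_singleton_iff]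
      show k⁻¹ * y * k * (k⁻¹ * g * k) = k⁻¹ * g * k * (k⁻¹ * y * k)
      calc k⁻¹ * y * k * (k⁻¹ * g * k) = k⁻¹ * (y * g) * k := by group
        _ = k⁻¹ * (g * y) * k := by rw [hy']
        _ = k⁻¹ * g * k * (k⁻¹ * y * k) := by group
  have hle : n ≤ (Nat.card ↥C).factorization p := by
    rw [← hp.pow_dvd_iff_le_factorization Nat.card_pos.ne', ← hCC, ← hn]
    exact Subgroup.card_dvd_of_le inf_le_right
  have hge : (Nat.card ↥C).factorization p ≤ n := by
    have hint := CfsgLib.Char.isIntegral_index_mul_div (isIrr_stJ (P := P)) g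
    simp only [hs.stJ_one, h1] at hint
    push_cast at hint
    rw [← hC] at hint
    have hint' : IsIntegral ℤ (((C.index * p ^ n : ℕ) : ℂ) / (Nat.card U : ℂ)) := by
      rcases neg_one_pow_eq_or ℂ K.ncard with h | h <;> rw [h] at hint
      · simpa using hint
      · simpa [neg_div] using hint.neg
    have hdvd := CfsgLib.Char.dvd_of_isIntegral_div Nat.card_pos.ne' hint'
    have hne : C.index * p ^ n ≠ 0 :=
      mul_ne_zero Subgroup.index_ne_zero_of_finite (pow_ne_zero _ hp.ne_zero)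
    rw [hs.card_pow, hp.pow_dvd_iff_le_factorization hne,
      Nat.factorization_mul Subgroup.index_ne_zero_of_finite (pow_ne_zero _ hp.ne_zero),
      Finsupp.add_apply, Nat.factorization_pow_self hp,
      ← C.card_mul_index, Nat.factorization_mul Nat.card_pos.ne'
        Subgroup.index_ne_zero_of_finite, Finsupp.add_apply] at hdvd
    omega
  rw [h1, le_antisymm hle hge]
  rcases neg_one_pow_eq_or ℤ K.ncard with h | h <;> rw [h]
  · exact Or.inl (one_mul _)
  · exact Or.inr (neg_one_mul _)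

end CfsgLib.BNSteinberg
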